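import Mathlib

set_option autoImplicit false

namespace CfsgLib.DihSub
open DihedralGroup

/-- The preimage of `{r 0, sr 0}` modulo a divisor `d` of `n`. -/
def sub (n d : ℕ) (h : d ∣ n) : Subgroup (DihedralGroup n) where
  carrier := {g | match g with
    | r i => ZMod.castHom h (ZMod d) i = 0
    | sr i => ZMod.castHom h (ZMod d) i = 0}
  one_mem' := by show ZMod.castHom h (ZMod d) 0 = 0; exact map_zero _
  mul_mem' := by
    rintro (i | i) (j | j) <;> intro hi hj <;> simp only [Set.mem_ofPred_eq] at hi hj <;>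
      simp only [r_mul_r, r_mul_sr, sr_mul_r, sr_mul_sr, Set.mem_ofPred_eq, map_add, map_sub, hi, hj, add_zero, sub_zero]
  inv_mem' := by
    rintro (i | i) <;> intro hi <;> simp only [Set.mem_ofPred_eq] at hi
    · show ZMod.castHom h (ZMod d) (-i) = 0
      rw [map_neg, hi, neg_zero]
    · exact hi

theorem r_mem {n d : ℕ} (h : d ∣ n) (i : ZMod n) : r i ∈ sub n d h ↔ ZMod.castHom h (ZMod d) i = 0 := Iff.rfl

theorem sr_mem {n d : ℕ} (h : d ∣ n) (i : ZMod n) : sr i ∈ sub n d h ↔ ZMod.castHom h (ZMod d) i = 0 := Iff.rfl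

/-- A subgroup without reflections is cyclic. -/
theorem exists_sr {n : ℕ} {H : Subgroup (DihedralGroup n)} (hH : ¬ IsCyclic H) : ∃ i, sr i ∈ H := by
  by_contra hne
  push Not at hne
  refine hH (Subgroup.isCyclic_of_le (H' := Subgroup.zpowers (r (1 : ZMod n))) fun g hg => ?_)
  cases g with
  | r i =>
    refine Subgroup.mem_zpowers_iff.mpr ⟨(i.cast : ℤ), ?_⟩
    rw [r_one_zpow, ZMod.intCast_zmod_cast]
  | sr i => exact absurd hg (hne i)

/-- A non-cyclic subgroup contains a non-identity rotation. -/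
theorem exists_r {n : ℕ} {H : Subgroup (DihedralGroup n)} (hH : ¬ IsCyclic H) : ∃ m, m ≠ 0 ∧ r m ∈ H := by
  by_contra hne
  push Not at hne
  obtain ⟨i, hi⟩ := exists_sr hH
  refine hH (Subgroup.isCyclic_of_le (H' := Subgroup.zpowers (sr i)) fun g hg => ?_)
  cases g with
  | r j =>
    by_cases hj : j = 0
    · subst hj; exact Subgroup.one_mem _
    · exact absurd hg (hne j hj)
  | sr j =>
    have h := H.mul_mem hi hg
    rw [sr_mul_sr] at h
    by_cases hj : j - i = 0
    · rw [sub_eq_zero.mp hj]; exact Subgroup.mem_zpowers _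
    · exact absurd h (hne _ hj)

theorem not_cyclic_of_not_comm {G : Type*} [Group G] {H : Subgroup G} (h : ¬ IsMulCommutative H) : ¬ IsCyclic H :=
  fun hc => h ⟨⟨fun a b => by
    letI := hc
    exact IsCyclic.commGroup.mul_comm a b⟩⟩

theorem two_mul_inj {n : ℕ} [NeZero n] {x y : ZMod n} (hx0 : x ≠ 0) (hy0 : y ≠ 0) (hx : x + x = 0) (hy : y + y = 0) : x = y := by
  have key : ∀ z : ZMod n, z ≠ 0 → z + z = 0 → 2 * z.val = n := fun z hz0 hz => by
    have h := congrArg ZMod.val hz
    rw [ZMod.val_add, ZMod.val_zero] at h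
    have hlt := z.val_lt
    have hpos : z.val ≠ 0 := fun e => hz0 ((ZMod.val_eq_zero z).mp e)
    obtain ⟨c, hc⟩ := Nat.dvd_of_mod_eq_zero h
    rcases c with _ | _ | c
    · omega
    · omega
    · rw [Nat.mul_add, Nat.mul_add] at hc; omega
  exact ZMod.val_injective n (by have := key x hx0 hx; have := key y hy0 hy; omega)

end CfsgLib.DihSub
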